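/-
Extension of maps into injective complexes with a prescribed composite.
-/
import Mathlib

universe v u

open CategoryTheory CategoryTheory.Limits

namespace Groth.Agent.LadderLift

variable {V : Type u} [Category.{v} V] [Abelian V]

/-- Extension into an injective object along a map with smaller kernel. -/
theorem exists_factor {W B J : V} [Injective J] (u : W ⟶ B) (w : W ⟶ J)
    (h : kernel.ι u ≫ w = 0) : ∃ v : B ⟶ J, u ≫ v = w := by
  let w' : Abelian.coimage u ⟶ J := cokernel.desc _ w h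
  let m : Abelian.coimage u ⟶ B := Abelian.factorThruCoimage u
  refine ⟨Injective.factorThru w' m, ?_⟩
  calc u ≫ Injective.factorThru w' m
      = (cokernel.π (kernel.ι u) ≫ m) ≫ Injective.factorThru w' m :=
        congrArg (· ≫ Injective.factorThru w' m) (Abelian.coimage.fac u).symm
    _ = w := by
      rw [Category.assoc, Injective.comp_factorThru]
      exact cokernel.π_desc _ _ _

variable {X C I : CochainComplex V ℕ} (e : X ⟶ C) (h : X ⟶ I) (g : C.cycles 0 ⟶ I.cycles 0)

/-- Correct components up to degree `n`. -/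
structure Good (n : ℕ) (f : C.X n ⟶ I.X n) : Prop where
  comp : e.f n ≫ f = h.f n
  cyc : C.iCycles n ≫ f ≫ I.d n (n + 1) = 0

variable (hC : ∀ n, 0 < n → C.ExactAt n) (hX : ∀ n, 0 < n → X.ExactAt n)
  (hI : ∀ n, Injective (I.X n))
  (hsplit : ∀ (n : ℕ) {A : V} (x : A ⟶ X.X n), (x ≫ e.f n) ≫ C.d n (n + 1) = 0 →
    ∃ (A' : V) (π : A' ⟶ A) (_ : Epi π) (z k : A' ⟶ X.X n),
      z ≫ X.d n (n + 1) = 0 ∧ k ≫ e.f n = 0 ∧ π ≫ x = z + k)
  (hker : ∀ (n : ℕ) {A : V} (k : A ⟶ X.X n), k ≫ e.f n = 0 → k ≫ h.f n = 0)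
  (hg : HomologicalComplex.cyclesMap e 0 ≫ g = HomologicalComplex.cyclesMap h 0)

include hI hsplit hker hg in
theorem exists_zero : ∃ f : C.X 0 ⟶ I.X 0, Good e h 0 f ∧ C.iCycles 0 ≫ f = g ≫ I.iCycles 0 := by
  have := hI 0
  let u : X.X 0 ⊞ C.cycles 0 ⟶ C.X 0 := biprod.desc (e.f 0) (C.iCycles 0)
  obtain ⟨f, hf⟩ := exists_factor u (biprod.desc (h.f 0) (g ≫ I.iCycles 0)) (by
    set k := kernel.ι u with hk
    let x := k ≫ biprod.fst
    let b := k ≫ biprod.snd
    have h0 : x ≫ e.f 0 + b ≫ C.iCycles 0 = 0 := by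
      refine Eq.trans ?_ (kernel.condition u)
      simp [u, x, b, k, biprod.desc_eq]
    have h1 : (x ≫ e.f 0) ≫ C.d 0 1 = 0 := by
      rw [eq_neg_of_add_eq_zero_left h0]; simp
    obtain ⟨A', π, _, z, k', hz, hk', hzk⟩ := hsplit 0 x h1
    rw [biprod.desc_eq, Preadditive.comp_add,
      ← Category.assoc k, ← Category.assoc k, ← cancel_epi π, comp_zero, Preadditive.comp_add,
      reassoc_of% hzk]
    show (z + k') ≫ h.f 0 + π ≫ b ≫ g ≫ I.iCycles 0 = 0
    rw [Preadditive.add_comp, hker 0 k' hk', add_zero]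
    let zc : A' ⟶ X.cycles 0 := X.liftCycles z 1 (by simp) hz
    have h2 : zc ≫ HomologicalComplex.cyclesMap e 0 = -(π ≫ b) := by
      rw [← cancel_mono (C.iCycles 0), Category.assoc, HomologicalComplex.cyclesMap_i,
        X.liftCycles_i_assoc, Preadditive.neg_comp, Category.assoc]
      have := congrArg (π ≫ ·) h0
      simp only [Preadditive.comp_add, comp_zero, reassoc_of% hzk, Preadditive.add_comp, hk',
        add_zero] at this
      exact eq_neg_of_add_eq_zero_left this
    have h3 : z ≫ h.f 0 = zc ≫ HomologicalComplex.cyclesMap h 0 ≫ I.iCycles 0 := by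
      rw [HomologicalComplex.cyclesMap_i, X.liftCycles_i_assoc]
    rw [h3, ← hg, Category.assoc, reassoc_of% h2]
    simp)
  have hcyc : C.iCycles 0 ≫ f = g ≫ I.iCycles 0 := by
    have := congrArg (biprod.inr ≫ ·) hf
    simpa [u] using this
  refine ⟨f, ⟨?_, ?_⟩, hcyc⟩
  · have := congrArg (biprod.inl ≫ ·) hf
    simpa [u] using this
  · rw [reassoc_of% hcyc]; simp

include hC hX hI hsplit hker in
theorem exists_succ (n : ℕ) (f : C.X n ⟶ I.X n) (hf : Good e h n f) :
    ∃ f' : C.X (n + 1) ⟶ I.X (n + 1), Good e h (n + 1) f' ∧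
      f ≫ I.d n (n + 1) = C.d n (n + 1) ≫ f' := by
  have := hI (n + 1)
  let u : X.X (n + 1) ⊞ C.X n ⟶ C.X (n + 1) := biprod.desc (e.f (n + 1)) (C.d n (n + 1))
  obtain ⟨f', hf'⟩ := exists_factor u (biprod.desc (h.f (n + 1)) (f ≫ I.d n (n + 1))) (by
    set k := kernel.ι u with hk
    let x := k ≫ biprod.fst
    let b := k ≫ biprod.snd
    have h0 : x ≫ e.f (n + 1) + b ≫ C.d n (n + 1) = 0 := by
      refine Eq.trans ?_ (kernel.condition u)
      simp [u, x, b, k, biprod.desc_eq]
    have h1 : (x ≫ e.f (n + 1)) ≫ C.d (n + 1) (n + 2) = 0 := by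
      rw [eq_neg_of_add_eq_zero_left h0]; simp
    obtain ⟨A', π, _, z, k', hz, hk', hzk⟩ := hsplit (n + 1) x h1
    have hex : (X.sc' n (n + 1) (n + 2)).Exact :=
      (X.exactAt_iff' n (n + 1) (n + 2) (by simp) (by simp)).1 (hX (n + 1) (by omega))
    obtain ⟨A'', π', _, x₀, hx₀⟩ := hex.exact_up_to_refinements z hz
    rw [biprod.desc_eq, Preadditive.comp_add,
      ← Category.assoc k, ← Category.assoc k, ← cancel_epi π, comp_zero, Preadditive.comp_add,
      reassoc_of% hzk]
    show (z + k') ≫ h.f (n + 1) + π ≫ b ≫ f ≫ I.d n (n + 1) = 0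
    rw [Preadditive.add_comp, hker (n + 1) k' hk', add_zero, ← cancel_epi π', comp_zero,
      Preadditive.comp_add]
    have hx₀' : π' ≫ z = x₀ ≫ X.d n (n + 1) := hx₀
    let y : A'' ⟶ C.X n := x₀ ≫ e.f n + π' ≫ π ≫ b
    have hy : y ≫ C.d n (n + 1) = 0 := by
      have := congrArg (π' ≫ ·) (congrArg (π ≫ ·) h0)
      simp only [Preadditive.comp_add, comp_zero, reassoc_of% hzk, Preadditive.add_comp, hk',
        add_zero, reassoc_of% hx₀'] at this
      simp only [y, Preadditive.add_comp, Category.assoc]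
      erw [e.comm]
      exact this
    let yc : A'' ⟶ C.cycles n := C.liftCycles y (n + 1) (by simp) hy
    have h4 : y ≫ f ≫ I.d n (n + 1) = 0 := by
      rw [show y = yc ≫ C.iCycles n from (C.liftCycles_i ..).symm, Category.assoc, hf.cyc, comp_zero]
    simp only [y, Preadditive.add_comp, Category.assoc] at h4
    rw [← h4, reassoc_of% hx₀']
    erw [← h.comm, reassoc_of% hf.comp])
  have hd : f ≫ I.d n (n + 1) = C.d n (n + 1) ≫ f' := by
    have := congrArg (biprod.inr ≫ ·) hf'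
    simpa [u] using this.symm
  refine ⟨f', ⟨?_, ?_⟩, hd⟩
  · have := congrArg (biprod.inl ≫ ·) hf'
    simpa [u] using this
  · have hex : (C.sc' n (n + 1) (n + 2)).Exact :=
      (C.exactAt_iff' n (n + 1) (n + 2) (by simp) (by simp)).1 (hC (n + 1) (by omega))
    obtain ⟨A', π, _, w, hw⟩ := hex.exact_up_to_refinements (C.iCycles (n + 1))
      (C.iCycles_d (n + 1) (n + 2))
    have hw' : π ≫ C.iCycles (n + 1) = w ≫ C.d n (n + 1) := hw
    rw [← cancel_epi π, comp_zero, reassoc_of% hw']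
    erw [← reassoc_of% hd]
    rw [I.d_comp_d, comp_zero]
    exact comp_zero

include hC hX hI hsplit hker hg in
theorem exists_hom : ∃ f : C ⟶ I, e ≫ f = h ∧ HomologicalComplex.cyclesMap f 0 = g := by
  classical
  obtain ⟨f₀, hf₀, hc₀⟩ := exists_zero e h g hI hsplit hker hg
  let F : ∀ n, { f : C.X n ⟶ I.X n // Good e h n f } := fun n =>
    Nat.rec ⟨f₀, hf₀⟩ (fun m p =>
      ⟨(exists_succ e h hC hX hI hsplit hker m p.1 p.2).choose,
        (exists_succ e h hC hX hI hsplit hker m p.1 p.2).choose_spec.1⟩) n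
  let f : C ⟶ I :=
    { f := fun n => (F n).1
      comm' := fun i j (hij : i + 1 = j) => by
        subst hij
        exact (exists_succ e h hC hX hI hsplit hker i (F i).1 (F i).2).choose_spec.2 }
  refine ⟨f, ?_, ?_⟩
  · ext n
    exact (F n).2.comp
  · rw [← cancel_mono (I.iCycles 0), HomologicalComplex.cyclesMap_i]
    exact hc₀

end Groth.Agent.LadderLift
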